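import Cfsg.Agent.Lib.PcMult.Co3.Checks2
import Cfsg.Agent.Lib.PcMult.Co3.Checks3
import Cfsg.Agent.Lib.PcMult.Co3.Checks5

/-!
The third Conway group has trivial multiplier.
-/

set_option autoImplicit false

namespace Cfsg.Agent.Lib.PcMult.Co3

open Cfsg Cfsg.Agent.Lib.PcMult

theorem card_eq : Nat.card Spor.Co3 = 495766656000 := by
  show Nat.card (Leech.stabP Spor.leechV) = _
  rw [Nat.card_congr (Leech.stabEquiv Spor.leechV).toEquiv,
    LeechAut.Conway23.card_stab48 (v := Spor.leechV) (show sqNorm Spor.vecV = 48 by decide +kernel)]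

theorem trivial_multiplier : Cfsg.HasCyclicSchurMultiplier ↥Spor.Co3 1 := by
  haveI : Finite Co0 := Nat.finite_of_card_ne_zero (by rw [LeechAut.Cross.card_Co0]; norm_num)
  haveI : Finite ↥Spor.Co3 := Nat.finite_of_card_ne_zero (by rw [card_eq]; norm_num)
  refine trivial_of_exp fun p hp hdvd Γ _ _ σ hc hσ hex P => ?_
  have hple : p ≤ 23 := by
    have h1 := (dvd_pow_self p two_ne_zero).trans hdvd
    rw [card_eq, show (495766656000 : ℕ) = 2 ^ 10 * 3 ^ 7 * 5 ^ 3 * 7 * 11 * 23 by norm_num] at h1
    have hpp := hp.out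
    rcases (Nat.Prime.dvd_mul hpp).1 h1 with h | h
    · rcases (Nat.Prime.dvd_mul hpp).1 h with h | h
      · rcases (Nat.Prime.dvd_mul hpp).1 h with h | h
        · rcases (Nat.Prime.dvd_mul hpp).1 h with h | h
          · rcases (Nat.Prime.dvd_mul hpp).1 h with h | h <;>
              exact le_trans (Nat.le_of_dvd (by norm_num) (hpp.dvd_of_dvd_pow h)) (by norm_num)
          · exact le_trans (Nat.le_of_dvd (by norm_num) (hpp.dvd_of_dvd_pow h)) (by norm_num)
        · exact le_trans (Nat.le_of_dvd (by norm_num) h) (by norm_num)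
      · exact le_trans (Nat.le_of_dvd (by norm_num) h) (by norm_num)
    · exact Nat.le_of_dvd (by norm_num) h
  have hfac : ∀ q k m : ℕ, q.Prime → 495766656000 = q ^ k * m → ¬ q ∣ m →
      (Nat.card (Leech.stabP Spor.leechV)).factorization q = k := by
    intro q k m hq e hm
    show (Nat.card Spor.Co3).factorization q = k
    have hm0 : m ≠ 0 := by rintro rfl; simp at e
    rw [card_eq, e, Nat.factorization_mul (pow_ne_zero _ hq.ne_zero) hm0, Finsupp.add_apply,
      Nat.Prime.factorization_pow hq, Nat.factorization_eq_zero_of_not_dvd hm, Finsupp.single_eq_same, add_zero]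
  rw [card_eq] at hdvd
  rcases eq_or_ne p 2 with rfl | h2
  · exact Leech.split_stab (D := P2.D) (p := 2) rfl (v := Spor.leechV) rfl (fun K _ h τ => ⟨_, bitOps_valid h τ⟩) P2.cert
      P2.elems P2.rules P2.fus P2.news P2.below P2.fixes
      (hfac 2 10 484147125 hp.out (by norm_num) (by norm_num)) Γ σ hc hσ hex P
  rcases eq_or_ne p 3 with rfl | h3
  · exact Leech.split_stab (D := P3.D) (p := 3) rfl (v := Spor.leechV) rfl (fun K _ h τ => ⟨_, vecOps_valid h τ⟩) P3.cert
      P3.elems P3.rules P3.fus P3.news P3.below P3.fixes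
      (hfac 3 7 226688000 hp.out (by norm_num) (by norm_num)) Γ σ hc hσ hex P
  rcases eq_or_ne p 5 with rfl | h5
  · exact Leech.split_stab (D := P5.D) (p := 5) rfl (v := Spor.leechV) rfl (fun K _ h τ => ⟨_, vecOps_valid h τ⟩) P5.cert
      P5.elems P5.rules P5.fus P5.news P5.below P5.fixes
      (hfac 5 3 3966133248 hp.out (by norm_num) (by norm_num)) Γ σ hc hσ hex P
  · exfalso
    have hpp := hp.out
    interval_cases p <;> first
      | omega
      | (norm_num at hdvd; done)
      | (norm_num at hpp; done)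

end Cfsg.Agent.Lib.PcMult.Co3
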